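import Cfsg.Agent.KFacts.TwESix.OutTwo
import Cfsg.Agent.ParSys.Fam.D4

/-!
# The `p`-part of the outer automorphism group of `³D₄(q)`

* `coordD` : the coordinates of the simple root groups, `PhiD`, `chD`;
* `DTau` : `β` fixes the nodes and acts on the root groups with the field automorphism `τ` of `K`, `|K| = q³`;
  `exists_dtau`;
* `exists_field`, `exists_outer`, `exists_hom` : every `p`-group of automorphisms, modulo its inner automorphisms, embeds
  in `Aut K`.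
-/

set_option autoImplicit false
set_option linter.unusedSectionVars false
set_option maxHeartbeats 400000

namespace Cfsg.Agent.KFacts.TwDFour.Out

open CoxeterSystem Cfsg.Agent.ChevalleyStructure.CoxeterGeom Cfsg.Agent.Tits.Roots Cfsg.Agent.Tits.Core
  Cfsg.Agent.Tits.Exchange Cfsg.Agent.Nodes.Reps Cfsg.Agent.Nodes.BNOf Cfsg.Agent.Nodes.StabComb
  Cfsg.Agent.Nodes.Bruhat Cfsg.Agent.Nodes.OppDec Cfsg.Agent.Nodes.RGDTwGen Cfsg.Agent.Nodes.RGDChev
  Cfsg.Agent.Nodes.RGDFold Cfsg.Agent.Nodes.RGDFoldSL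
open Cfsg.Agent.KFacts.RgdOpp Cfsg.Agent.KFacts.RgdAut Cfsg.Agent.KFacts.RgdDiag Cfsg.Agent.KFacts.RgdRigid
  Cfsg.Agent.KFacts.RgdField Cfsg.Agent.KFacts.RgdTau Cfsg.Agent.KFacts.RgdNodes
open Cfsg.Agent.KFacts.RgdChevCoord (closure_sq)
open Cfsg.Lie Cfsg.Agent.ChevalleyStructure
open Cfsg.Agent.ChevalleyStructure.SL2Hom (up lo)
open Cfsg.Agent.KFacts.TwESix.NodeCoord
open Cfsg.Agent.KFacts.TwESix.Out (tau_eq)
open Cfsg.Agent.KFacts.TwESix.OutTwo (card_of_coord)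
open Cfsg.Agent.Nodes.RGDTwD4 Cfsg.Agent.Nodes.RGDTwNode.D4
open Cfsg.Agent.ParSys.Fam.D4 (Ph hf coe_hS0 sc14)

universe u

/-- symmetries of the diagram `G₂` -/
theorem perm_G2 : ∀ σ : Equiv.Perm (Fin 2), σ 0 ≠ 1 → σ = 1 := by decide +kernel

variable {K : Type u} [Field K] [Fintype K] {q : ℕ} {φ : K →+* K} (hφ : ∀ x, φ x = x ^ q)
  (hK : Fintype.card K = q ^ 3)

/-- the coordinate field of the node `i` -/
abbrev KD (φ : K →+* K) (i : Fin 2) : Subfield K := Fx φ ((rest i).length + 1)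

/-- The homomorphism `SL₂ → ³D₄(q)` of the node `i`. -/
noncomputable def PhiD (i : Fin 2) : Matrix.SpecialLinearGroup (Fin 2) (KD φ i) →* ↥(twistedD4 K q) :=
  Phi (foldGrp hφ (D4Fixed.twisted_le_fix hK hφ)) (nodeOK i) (hf φ i)

/-- The scalar of a torus element on the simple root group `i`. -/
noncomputable def chD (i : Fin 2) (t : ↥(twistedD4 K q)) : KD φ i :=
  ch (foldGrp hφ (D4Fixed.twisted_le_fix hK hφ)) (nodeOK i) (hf φ i) t

theorem coordD (i : Fin 2) : Coord (T K q) (X φ q (sr i)) (fun a => PhiD hφ hK i (up a)) (chD hφ hK i) :=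
  coord (foldGrp hφ (D4Fixed.twisted_le_fix hK hφ)) (nodeOK i) (hf φ i)

theorem mem_X (i : Fin 2) (g : ↥(twistedD4 K q)) : g ∈ X φ q (sr i) ↔ ∃ a, g = PhiD hφ hK i (up a) :=
  mem_X_iff (foldGrp hφ (D4Fixed.twisted_le_fix hK hφ)) (nodeOK i) (hf φ i) g

theorem PhiD_wS (i : Fin 2) : PhiD hφ hK i (wS 1) = n hφ i :=
  Phi_wS (foldGrp hφ (D4Fixed.twisted_le_fix hK hφ)) (nodeOK i) (hf φ i)

theorem PhiD_hS (i : Fin 2) (d : KD φ i) (hd : d ≠ 0) : PhiD hφ hK i (hS d) ∈ T K q :=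
  Phi_hS (foldGrp hφ (D4Fixed.twisted_le_fix hK hφ)) (nodeOK i) (hf φ i) hd

theorem chD_hS (i : Fin 2) (d : KD φ i) (hd : d ≠ 0) : chD hφ hK i (PhiD hφ hK i (hS d)) = d ^ 2 :=
  ch_hS (foldGrp hφ (D4Fixed.twisted_le_fix hK hφ)) (nodeOK i) (hf φ i) hd

theorem chD_eq (j : Fin 2) {t : ↥(twistedD4 K q)} (ht : t ∈ T K q) {c : K}
    (hc : (t : GL chevD4.Idx K) * Elts.xG hp.inList (rep j) 1 * (t : GL chevD4.Idx K)⁻¹ =
      Elts.xG hp.inList (rep j) c) : (chD hφ hK j t : K) = c :=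
  ch_eq (foldGrp hφ (D4Fixed.twisted_le_fix hK hφ)) (nodeOK j) (hf φ j) ht hc

theorem ch01 (d : KD φ 0) (hd : d ≠ 0) : (chD hφ hK 1 (PhiD hφ hK 0 (hS d)) : K) = (d : K)⁻¹ := by
  have hd' : (d : K) ≠ 0 := fun h => hd (Subtype.ext h)
  apply chD_eq hφ hK 1 (PhiD_hS hφ hK 0 d hd)
  have h1 : ((PhiD hφ hK 0 (hS d) : ↥(twistedD4 K q)) : GL chevD4.Idx K) = Elts.hG hp.inList 14 (d : K) :=
    coe_hS0 hφ (D4Fixed.twisted_le_fix hK hφ) d
  rw [h1]
  have h2 := (sc14 (K := K) hd').2 18 (by simp) 1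
  rw [mul_one] at h2
  exact h2

theorem F1_le_F3 : KD φ 0 ≤ KD φ 1 := by
  intro a ha
  rw [mem_Fx] at ha ⊢
  have ha' : φ a = a := ha
  show φ (φ (φ a)) = a
  rw [ha', ha', ha']

include hK in
theorem F3_eq_top (hφ : ∀ x, φ x = x ^ q) : KD φ 1 = ⊤ := by
  rw [eq_top_iff]
  intro a _
  rw [mem_Fx]
  show φ (φ (φ a)) = a
  rw [hφ, hφ, hφ, ← pow_mul, ← pow_mul]
  have h1 : q * (q * q) = Fintype.card K := by rw [hK]; ring
  rw [h1]
  exact FiniteField.pow_card a

theorem F1_ne_top (hφ : ∀ x, φ x = x ^ q) (hK : Fintype.card K = q ^ 3) (hq1 : 1 < q) : KD φ 0 ≠ ⊤ := by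
  intro h
  classical
  have h1 : ∀ a : K, a ^ q = a := by
    intro a
    have h2 : a ∈ KD φ 0 := by rw [h]; exact Subfield.mem_top a
    rw [mem_Fx] at h2
    have h3 : φ a = a := h2
    rwa [hφ] at h3
  obtain ⟨g, hg⟩ := IsCyclic.exists_generator (α := Kˣ)
  have h2 : orderOf g = Fintype.card Kˣ := orderOf_eq_card_of_forall_mem_zpowers hg |>.trans Nat.card_eq_fintype_card
  have h3 : g ^ (q - 1) = 1 := by
    have h4 : g ^ q = g := Units.ext (by rw [Units.val_pow_eq_pow_val]; exact h1 _)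
    have h5 : g ^ (q - 1) * g = g := by
      rw [← pow_succ, Nat.sub_add_cancel hq1.le, h4]
    exact mul_eq_right.1 h5
  have h4 := orderOf_dvd_of_pow_eq_one h3
  rw [h2, Fintype.card_units, hK] at h4
  have h5 := Nat.le_of_dvd (by omega) h4
  have h6 : q * 4 ≤ q ^ 3 := by
    rw [pow_succ', pow_two]
    exact Nat.mul_le_mul_left q (Nat.mul_le_mul hq1 hq1)
  omega

include hφ hK in
theorem card_ne (hq1 : 1 < q) : Nat.card ↥(X φ q (sr 1)) ≠ Nat.card ↥(X φ q (sr 0)) := by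
  rw [card_of_coord (coordD hφ hK 1), card_of_coord (coordD hφ hK 0)]
  intro h
  apply F1_ne_top hφ hK hq1
  have h2 : Nat.card (KD φ 1) = Nat.card K := by
    rw [F3_eq_top hK hφ]
    exact Nat.card_congr Subfield.topEquiv.toEquiv
  have h3 : Nat.card (KD φ 0) = Nat.card K := h.symm.trans h2
  have h4 : ((KD φ 0 : Subfield K) : Set K) = Set.univ := by
    apply Set.eq_of_subset_of_ncard_le (Set.subset_univ _)
    rw [Set.ncard_univ, ← h3]
    exact le_of_eq (Nat.card_coe_set_eq _)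
  exact SetLike.coe_injective (h4.trans Subfield.coe_top.symm)

instance charP_KD (p : ℕ) [CharP K p] (i : Fin 2) : CharP (KD φ i) p :=
  (RingHom.charP_iff (KD φ i).subtype (KD φ i).subtype_injective p).2 inferInstance

/-- `β` fixes the nodes and acts on the simple root groups with the field automorphism `τ` of `K`. -/
structure DTau (β : MulAut ↥(twistedD4 K q)) (τ : K ≃+* K) : Prop where
  diag : Diag (T K q) (X φ q) β 1
  char : ∀ i, ∀ t ∈ T K q, (chD hφ hK i (β t) : K) = τ (chD hφ hK i t : K)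

variable {W : Type*} [Group W] (cs : CoxeterSystem CoxeterMatrix.G₂ W)

include cs in
theorem finiteW : Finite W := Cfsg.Agent.Nodes.RGDFold.finite_W (hp := hp) cs isCartan foldData

theorem DTau.one : DTau hφ hK (1 : MulAut ↥(twistedD4 K q)) 1 := ⟨Diag.one, fun _ _ _ => rfl⟩

theorem DTau.mul {β β' : MulAut ↥(twistedD4 K q)} {τ τ' : K ≃+* K} (S : DTau hφ hK β τ)
    (S' : DTau hφ hK β' τ') : DTau hφ hK (β * β') (τ * τ') where
  diag := by
    have := S.diag.mul S'.diag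
    rwa [mul_one] at this
  char i t ht := by
    rw [MulAut.mul_apply, S.char _ _ ((S'.diag.tor t).2 ht), S'.char i t ht]
    rfl

theorem DTau.unique {β : MulAut ↥(twistedD4 K q)} {τ τ' : K ≃+* K} (S : DTau hφ hK β τ)
    (S' : DTau hφ hK β τ') : τ = τ' := by
  let E : AddSubgroup K := AddMonoidHom.eqLocus (τ : K →+ K) (τ' : K →+ K)
  have hE : E = ⊤ := by
    apply closure_sq
    intro d hd
    have h1 : d ∈ KD φ 1 := by
      rw [F3_eq_top hK hφ]
      exact Subfield.mem_top d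
    have h2 : (⟨d, h1⟩ : KD φ 1) ≠ 0 := fun h => hd (congrArg Subtype.val h)
    have h3 := S.char 1 _ (PhiD_hS hφ hK 1 ⟨d, h1⟩ h2)
    have h4 := S'.char 1 _ (PhiD_hS hφ hK 1 ⟨d, h1⟩ h2)
    rw [h3, chD_hS hφ hK 1 _ h2] at h4
    exact h4
  ext a
  have h3 : a ∈ E := by rw [hE]; exact AddSubgroup.mem_top a
  exact h3

include cs in
/-- **One field automorphism.** -/
theorem exists_dtau (p : ℕ) [Fact p.Prime] [CharP K p] {β : MulAut ↥(twistedD4 K q)}
    (D : Diag (T K q) (X φ q) β 1) : ∃ τ : K ≃+* K, DTau hφ hK β τ := by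
  have : Finite W := finiteW cs
  have R := Cfsg.Agent.Nodes.RGDTwD4.rgd cs hK hφ p
  obtain ⟨τ, S⟩ := exists_ntau (coordD hφ hK) D
  have h01 : ∀ a : KD φ 0, (τ 1 (Subfield.inclusion F1_le_F3 a) : K) = (τ 0 a : K) := by
    intro a
    have h1 := tau_eq R (i := (0 : Fin 2)) (mem_X hφ hK 0) (PhiD_wS hφ hK 0) (PhiD_hS hφ hK 0)
      (χ := chD hφ hK 0) (χ' := chD hφ hK 1) (em := Subfield.inclusion F1_le_F3) (chD_hS hφ hK 0)
      (fun d hd => Subtype.ext (ch01 hφ hK d hd)) D (fun t ht => S.char 0 t ht) (fun t ht => S.char 1 t ht) a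
    exact congrArg Subtype.val h1
  let e : KD φ 1 ≃+* K := (RingEquiv.subfieldCongr (F3_eq_top hK hφ)).trans Subfield.topEquiv
  have he : ∀ a : KD φ 1, e a = (a : K) := fun a => rfl
  have hes : ∀ a : KD φ 1, e.symm (a : K) = a := fun a => by rw [← he, e.symm_apply_apply]
  refine ⟨(e.symm.trans (τ 1)).trans e, D, ?_⟩
  have h2 : ∀ a : KD φ 1, ((e.symm.trans (τ 1)).trans e) (a : K) = (τ 1 a : K) := by
    intro a
    show e (τ 1 (e.symm (a : K))) = _
    rw [hes, he]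
  have h3 : ∀ i : Fin 2, ∀ a : KD φ i, ((e.symm.trans (τ 1)).trans e) (a : K) = (τ i a : K) := by
    intro i
    have hi : i = 0 ∨ i = 1 := by fin_cases i <;> simp
    rcases hi with rfl | rfl
    · intro a
      exact (h2 (Subfield.inclusion F1_le_F3 a)).trans (h01 a)
    · exact h2
  intro i t ht
  rw [h3, S.char i t ht]

include cs in
/-- conjugation by an element of the torus -/
theorem dtau_conj (p : ℕ) [Fact p.Prime] [CharP K p] {t : ↥(twistedD4 K q)} (ht : t ∈ T K q) :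
    DTau hφ hK (MulAut.conj t) 1 := by
  have : Finite W := finiteW cs
  have R := Cfsg.Agent.Nodes.RGDTwD4.rgd cs hK hφ p
  have key : ∀ x, IsRoot cs isCartan x → ∀ y, MulAut.conj t y ∈ X φ q x ↔ y ∈ X φ q x := by
    intro x hx y
    have h1 := R.tor x hx t ht
    constructor
    · intro hy
      rw [← h1, mem_cj, MulAut.conj_apply] at hy
      have e : t⁻¹ * (t * y * t⁻¹) * t = y := by group
      rwa [e] at hy
    · intro hy
      rw [← h1, mem_cj, MulAut.conj_apply]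
      have e : t⁻¹ * (t * y * t⁻¹) * t = y := by group
      rwa [e]
  refine ⟨⟨fun y => ?_, fun i y => ?_, fun i y => ?_⟩, fun i s hs => ?_⟩
  · rw [MulAut.conj_apply]
    constructor
    · intro hy
      have e : y = t⁻¹ * (t * y * t⁻¹) * t := by group
      rw [e]
      exact mul_mem (mul_mem (inv_mem ht) hy) ht
    · intro hy
      exact mul_mem (mul_mem ht hy) (inv_mem ht)
  · exact key _ (isRoot_sr cs isCartan i) y
  · exact key _ (isRoot_sr cs isCartan i).neg y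
  · rw [MulAut.conj_apply, (coordD hφ hK i).chi_conj ht hs]
    rfl

include cs in
/-- A `p`-element with trivial field automorphism is trivial. -/
theorem dtau_eq_one (p : ℕ) [Fact p.Prime] [CharP K p] {β : MulAut ↥(twistedD4 K q)}
    (S : DTau hφ hK β 1) {k : ℕ} (hβ : β ^ p ^ k = 1) : β = 1 := by
  have : Finite W := finiteW cs
  have R := Cfsg.Agent.Nodes.RGDTwD4.rgd cs hK hφ p
  have hS : NTau (T K q) (X φ q) (chD hφ hK) β 1 := ⟨S.diag, fun i t ht => Subtype.ext (S.char i t ht)⟩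
  exact NTau.eq_one (coordD hφ hK) R (G1_eq_top cs hK hφ) hS hβ

/-- **A `p`-group of automorphisms fixing `U`.** -/
theorem exists_field (hq1 : 1 < q) (p : ℕ) [Fact p.Prime] [CharP K p]
    {S : Subgroup (MulAut ↥(twistedD4 K q))} (hSp : IsPGroup p ↥S)
    (hS : ∀ α ∈ S, Fix α (RGD.Sup (X φ q) (RGD.Pos cs isCartan))) :
    ∃ f : ↥S →* (K ≃+* K), ∀ α : ↥S,
      (∃ u ∈ RGD.Sup (X φ q) (RGD.Pos cs isCartan), DTau hφ hK (MulAut.conj u * α.1) (f α) ∧
        ∀ k : ℕ, α ^ k = 1 → (MulAut.conj u * α.1) ^ k = 1) ∧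
      (f α = 1 ↔ ∃ u ∈ RGD.Sup (X φ q) (RGD.Pos cs isCartan), α.1 = MulAut.conj u) ∧
      ((∃ x, α.1 = MulAut.conj x) → f α = 1) := by
  have : Finite W := finiteW cs
  have R := Cfsg.Agent.Nodes.RGDTwD4.rgd cs hK hφ p
  have hG1 : RGD.Sup (X φ q) {x | IsRoot cs isCartan x} = ⊤ := G1_eq_top cs hK hφ
  have hG := GG_eq_top (T := T K q) hG1
  obtain ⟨g, hg⟩ := exists_toFrame R hG S hS
  have h1 : ∀ α : ↥S, ∃ τ : K ≃+* K, DTau hφ hK (g α) τ := by
    intro α
    obtain ⟨σ, D⟩ := exists_diag R hG (hg α).1.1 (hg α).1.2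
    have h2 : σ = 1 := by
      apply perm_G2 σ
      intro h3
      have h4 := Diag.card_eq D 0
      rw [h3] at h4
      exact card_ne hφ hK hq1 h4
    subst h2
    exact exists_dtau hφ hK cs p D
  choose τ hτ using h1
  refine ⟨MonoidHom.mk' τ fun α γ => DTau.unique hφ hK (hτ _) ?_, fun α => ⟨?_, ?_, ?_⟩⟩
  · rw [map_mul]
    exact (hτ α).mul hφ hK (hτ γ)
  · obtain ⟨u, hu, e⟩ := (hg α).2.1
    refine ⟨u, hu, ?_, fun k hk => ?_⟩
    · rw [← e]
      exact hτ α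
    · rw [← e]
      exact (hg α).2.2.1 k hk
  · rw [← (hg α).2.2.2.1]
    constructor
    · intro h2
      have h3 : τ α = 1 := h2
      have h4 := hτ α
      rw [h3] at h4
      obtain ⟨k, hk⟩ := hSp α
      exact dtau_eq_one hφ hK cs p h4 ((hg α).2.2.1 _ hk)
    · intro h2
      show τ α = 1
      apply DTau.unique hφ hK (hτ α)
      rw [h2]
      exact DTau.one hφ hK
  · rintro ⟨x, hx⟩
    show τ α = 1
    apply DTau.unique hφ hK (hτ α)
    obtain ⟨u, hu, e⟩ := (hg α).2.1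
    rw [hx, ← map_mul] at e
    rw [e]
    apply dtau_conj hφ hK cs p
    have h2 := (hg α).1
    rw [e] at h2
    have h3 : u * x ∈ RGD.B cs isCartan (T K q) (X φ q) := by
      rw [← normalizer_U' R hG, Subgroup.mem_normalizer_iff]
      intro y
      rw [← MulAut.conj_apply]
      exact (h2.1 y).symm
    have h4 : u * x ∈ BN cs isCartan (T K q) (X φ q) := by
      rw [← normalizer_UN R hG, Subgroup.mem_normalizer_iff]
      intro y
      rw [← MulAut.conj_apply]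
      exact (h2.2 y).symm
    rw [← B_inf_BN R]
    exact ⟨h3, h4⟩

include cs hφ hK in
theorem not_dvd_index (p : ℕ) [Fact p.Prime] [CharP K p] :
    ¬ p ∣ (RGD.Sup (X φ q) (RGD.Pos cs isCartan)).index := by
  have : Finite W := finiteW cs
  have R := Cfsg.Agent.Nodes.RGDTwD4.rgd cs hK hφ p
  have h1 := RgdSyl.not_dvd_relIndex R
  rwa [GG_eq_top (T := T K q) (G1_eq_top cs hK hφ), Subgroup.relIndex_top_right] at h1

/-- **The `p`-part of the outer automorphism group of `³D₄(q)`** : every `p`-group `S` of automorphisms, modulo its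
inner automorphisms, embeds in the Galois group of `K`. -/
theorem exists_outer (hq1 : 1 < q) (p : ℕ) [Fact p.Prime] [CharP K p]
    {S : Subgroup (MulAut ↥(twistedD4 K q))} (hSp : IsPGroup p ↥S) :
    ∃ (g : ↥(twistedD4 K q)) (f : ↥S →* (K ≃+* K)),
      (∀ α ∈ S, Fix (MulAut.conj g⁻¹ * α * MulAut.conj g) (RGD.Sup (X φ q) (RGD.Pos cs isCartan))) ∧
      ∀ α : ↥S, (∃ u ∈ RGD.Sup (X φ q) (RGD.Pos cs isCartan),
        DTau hφ hK (MulAut.conj u * (MulAut.conj g⁻¹ * α.1 * MulAut.conj g)) (f α) ∧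
          ∀ k : ℕ, α ^ k = 1 → (MulAut.conj u * (MulAut.conj g⁻¹ * α.1 * MulAut.conj g)) ^ k = 1) ∧
        (f α = 1 ↔ ∃ x, α.1 = MulAut.conj x) := by
  have : Finite W := finiteW cs
  have R := Cfsg.Agent.Nodes.RGDTwD4.rgd cs hK hφ p
  obtain ⟨g, hg⟩ := SylFix.exists_conj_fix (p := p) R.isPGroup_Upos (not_dvd_index hφ hK cs p) hSp
  let c : MulAut ↥(twistedD4 K q) →* MulAut ↥(twistedD4 K q) := (MulAut.conj (MulAut.conj g⁻¹)).toMonoidHom
  have hc : ∀ α, c α = MulAut.conj g⁻¹ * α * MulAut.conj g := by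
    intro α
    show MulAut.conj g⁻¹ * α * (MulAut.conj g⁻¹)⁻¹ = _
    rw [← map_inv, inv_inv]
  have hcinj : Function.Injective c := (MulAut.conj (MulAut.conj g⁻¹)).injective
  obtain ⟨f, hf⟩ := exists_field hφ hK cs hq1 p (S := S.map c) (hSp.map c) (by
    rintro _ ⟨α, hα, rfl⟩
    rw [hc]
    exact hg α hα)
  let j : ↥S →* ↥(S.map c) := c.subgroupMap S
  have hj : ∀ α : ↥S, (j α).1 = MulAut.conj g⁻¹ * α.1 * MulAut.conj g := fun α => hc α.1
  refine ⟨g, f.comp j, hg, fun α => ⟨?_, ?_⟩⟩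
  · obtain ⟨u, hu, h1, h2⟩ := (hf (j α)).1
    rw [hj] at h1 h2
    refine ⟨u, hu, h1, fun k hk => h2 k ?_⟩
    rw [← map_pow, hk, map_one]
  · constructor
    · intro h1
      obtain ⟨u, hu, h2⟩ := (hf (j α)).2.1.1 h1
      rw [hj] at h2
      refine ⟨g * u * g⁻¹, ?_⟩
      rw [map_mul, map_mul, ← h2, map_inv]
      simp only [mul_assoc, mul_inv_cancel, mul_one, mul_inv_cancel_left]
    · rintro ⟨x, hx⟩
      apply (hf (j α)).2.2
      refine ⟨g⁻¹ * x * g, ?_⟩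
      rw [hj, hx, map_mul, map_mul]

/-! ### The statement without coordinates -/

theorem exists_hom_model (hq : IsPrimePow q) (hK : Fintype.card K = q ^ 3) (p : ℕ) [Fact p.Prime] [CharP K p]
    {S : Subgroup (MulAut ↥(twistedD4 K q))} (hS : IsPGroup p ↥S) :
    ∃ f : ↥S →* (K ≃+* K), ∀ α : ↥S, f α = 1 ↔ ∃ x, α.1 = MulAut.conj x := by
  obtain ⟨φ, hφ⟩ := D4Fixed.exists_frob hq hK
  obtain ⟨g, f, -, hf⟩ := exists_outer hφ hK CoxeterMatrix.G₂.toCoxeterSystem hq.one_lt p hS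
  exact ⟨f, fun α => (hf α).2⟩

/-- **Automorphisms of `³D₄(q)` of `p`-power order.** -/
theorem exists_hom {G : Type*} [Group G] (hq : IsPrimePow q) (hK : Fintype.card K = q ^ 3)
    (e : G ≃* ↥(twistedD4 K q)) (p : ℕ) [Fact p.Prime] [CharP K p] {S : Subgroup (MulAut G)} (hS : IsPGroup p ↥S) :
    ∃ f : ↥S →* (K ≃+* K), ∀ α : ↥S, f α = 1 ↔ ∃ x, α.1 = MulAut.conj x := by
  let c : MulAut G →* MulAut ↥(twistedD4 K q) := (MulAut.congr e).toMonoidHom
  have hc : ∀ (α : MulAut G) (x : G), c α (e x) = e (α x) := by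
    intro α x
    show e (α (e.symm (e x))) = e (α x)
    rw [e.symm_apply_apply]
  obtain ⟨f, hf⟩ := exists_hom_model hq hK p (hS.map c)
  refine ⟨f.comp (c.subgroupMap S), fun α => (hf _).trans ⟨?_, ?_⟩⟩
  · rintro ⟨x, hx⟩
    have hx' : c α.1 = MulAut.conj x := hx
    refine ⟨e.symm x, ?_⟩
    ext y
    apply e.injective
    rw [← hc, hx', MulAut.conj_apply, MulAut.conj_apply, map_mul, map_mul, map_inv, e.apply_symm_apply]
  · rintro ⟨x, hx⟩
    refine ⟨e x, ?_⟩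
    show c α.1 = MulAut.conj (e x)
    ext y
    obtain ⟨z, rfl⟩ := e.surjective y
    rw [hc, hx, MulAut.conj_apply, MulAut.conj_apply, map_mul, map_mul, map_inv]

end Cfsg.Agent.KFacts.TwDFour.Out
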